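import Cfsg.Agent.Chars.Indicator
import Cfsg.Agent.Chars.Construct
import Cfsg.Agent.Chars.Values
import Cfsg.Agent.PGroups.Basic
import Mathlib.GroupTheory.FiniteAbelian.Duality
import Mathlib

/-!
In a 2-group with Frattini quotient of order at least `2 ^ (2k+1)` the number of solutions of
`x ^ 2 = 1` is divisible by `2 ^ (k+1)`: the Frobenius–Schur sum `Σ ν(χ) χ(1)` split into orbits
under multiplication by linear characters.
-/

set_option linter.style.haveILetI false
set_option linter.unusedSectionVars false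

namespace Cfsg.Lib.InvolutionCount

open scoped ComplexConjugate
open Cfsg.Lib.Chars

universe u

variable {G : Type u} [Group G]

/-- the real linear characters -/
abbrev Lin (G : Type u) [Group G] : Type u := (G ⧸ frattini G) →* ℂˣ

noncomputable def lam (l : Lin G) : G →* ℂˣ := l.comp (QuotientGroup.mk' (frattini G))

theorem lam_injective : Function.Injective (lam : Lin G → (G →* ℂˣ)) := fun a b h => by
  refine MonoidHom.ext fun q => ?_
  obtain ⟨g, rfl⟩ := QuotientGroup.mk'_surjective _ q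
  exact DFunLike.congr_fun h g

noncomputable instance [Finite G] : MulAction (Lin G) (Cfsg.IrrCharacter G) where
  smul l χ := ⟨fun g => (lam l g : ℂ) * (χ : G → ℂ) g, IsIrrCharacter.mul_linear χ.2 (lam l)⟩
  one_smul χ := Subtype.ext (funext fun g => by
    show (lam (1 : Lin G) g : ℂ) * (χ : G → ℂ) g = _
    simp [lam])
  mul_smul l m χ := Subtype.ext (funext fun g => by
    show (lam (l * m) g : ℂ) * (χ : G → ℂ) g = (lam l g : ℂ) * ((lam m g : ℂ) * (χ : G → ℂ) g)
    simp [lam, mul_assoc])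

theorem smul_apply [Finite G] (l : Lin G) (χ : Cfsg.IrrCharacter G) (g : G) :
    ((l • χ : Cfsg.IrrCharacter G) : G → ℂ) g = (lam l g : ℂ) * (χ : G → ℂ) g := rfl

theorem smul_deg [Finite G] (l : Lin G) (χ : Cfsg.IrrCharacter G) :
    deg ((l • χ : Cfsg.IrrCharacter G) : G → ℂ) = deg (χ : G → ℂ) := by
  rw [deg, deg, smul_apply]
  simp

/-- multiplication by a linear character fixes at most `χ(1)²` times -/
theorem card_stabilizer_le [Finite G] [Finite (Lin G)] (χ : Cfsg.IrrCharacter G) :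
    Nat.card (MulAction.stabilizer (Lin G) χ) ≤ deg (χ : G → ℂ) ^ 2 := by
  classical
  haveI := Fintype.ofFinite G
  haveI : Fintype (Lin G) := Fintype.ofFinite _
  set S := MulAction.stabilizer (Lin G) χ
  set f : G → ℂ := (χ : G → ℂ) * fun g => conj ((χ : G → ℂ) g) with hf
  have hfc : Cfsg.IsCharacter G f :=
    IsCharacter.mul (isCharacter_of_irr χ.2) (IsCharacter.conjugate (isCharacter_of_irr χ.2))
  choose m hm using fun ψ : Cfsg.IrrCharacter G => IsCharacter.exists_mult hfc ψ.2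
  let ι : S → Cfsg.IrrCharacter G := fun l =>
    ⟨fun g => (lam (l : Lin G) g : ℂ), isIrrCharacter_linear _⟩
  have hι : Function.Injective ι := fun a b h => by
    refine Subtype.ext (lam_injective (MonoidHom.ext fun g => Units.ext ?_))
    exact congrFun (congrArg Subtype.val h) g
  have hone : ∀ l : S, m (ι l) = 1 := fun l => by
    have hfix : ∀ g, (lam (l : Lin G) g : ℂ) * (χ : G → ℂ) g = (χ : G → ℂ) g := fun g =>
      congrFun (congrArg Subtype.val (MulAction.mem_stabilizer_iff.mp l.2)) g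
    have h1 : Cfsg.classInner f (ι l : G → ℂ) = 1 := by
      rw [← classInner_self_irr χ.2, classInner_def, classInner_def]
      congr 1
      refine Finset.sum_congr rfl fun g _ => ?_
      conv_rhs => arg 2; rw [← hfix g]
      simp only [hf, Pi.mul_apply, map_mul, ι]
      ring
    rw [hm] at h1
    exact_mod_cast h1
  have hdeg : deg (χ : G → ℂ) ^ 2 = ∑ ψ : Cfsg.IrrCharacter G, m ψ * deg (ψ : G → ℂ) := by
    have h := classFunction_expand_apply (isClassFunction_isChar hfc) 1
    simp only [hm, irr_apply_one_eq_deg] at h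
    have h1 : f 1 = ((deg (χ : G → ℂ) ^ 2 : ℕ) : ℂ) := by
      simp [hf, irr_apply_one_eq_deg, sq]
    rw [h1] at h
    exact_mod_cast h
  rw [hdeg, Nat.card_eq_fintype_card, ← Finset.card_univ, Finset.card_eq_sum_ones]
  calc ∑ _l : S, 1 ≤ ∑ l : S, m (ι l) * deg (ι l : G → ℂ) :=
        Finset.sum_le_sum fun l _ => by rw [hone, one_mul]; exact deg_irr_pos _
    _ = ∑ ψ ∈ Finset.univ.image ι, m ψ * deg (ψ : G → ℂ) := by
        rw [Finset.sum_image fun a _ b _ h => hι h]
    _ ≤ _ := Finset.sum_le_sum_of_subset (Finset.subset_univ _)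

theorem deg_dvd_card [Finite G] (χ : Cfsg.IrrCharacter G) : deg (χ : G → ℂ) ∣ Nat.card G := by
  obtain ⟨n, ρ, hρ, he⟩ := χ.2
  haveI := hρ
  rw [← he, deg_character]
  exact finrank_dvd_card ρ

theorem two_pow_dvd [Finite G] (hG : IsPGroup 2 G) (k : ℕ)
    (hgen : 2 ^ (2 * k + 1) ≤ Nat.card (G ⧸ frattini G)) :
    2 ^ (k + 1) ∣ Nat.card {x : G // x ^ 2 = 1} := by
  classical
  haveI := Fintype.ofFinite G
  haveI hQc := Cfsg.Lib.PGroups.isMulCommutative_quotient_frattini hG
  letI : CommGroup (G ⧸ frattini G) :=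
    { (inferInstance : Group (G ⧸ frattini G)) with mul_comm := hQc.is_comm.comm }
  haveI : NeZero (Monoid.exponent (G ⧸ frattini G)) := ⟨Monoid.exponent_ne_zero_of_finite⟩
  have hcardL : Nat.card (Lin G) = Nat.card (G ⧸ frattini G) :=
    CommGroup.card_monoidHom_of_hasEnoughRootsOfUnity _ _
  haveI hfin : Finite (Lin G) := (Nat.card_pos_iff.mp (hcardL ▸ Nat.card_pos)).2
  haveI : Fintype (Lin G) := Fintype.ofFinite _
  obtain ⟨d, hd⟩ := IsPGroup.iff_card.mp (hG.to_quotient (frattini G))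
  have hdk : 2 * k + 1 ≤ d := (Nat.pow_le_pow_iff_right (by norm_num)).mp (hd ▸ hgen)
  -- the indicator
  let θ : G → ℂ := fun g => Nat.card {x : G // x * x = g}
  have hθ : Cfsg.IsClassFunction G θ := fun g h => by
    refine congrArg Nat.cast (Nat.card_congr ((MulAut.conj h⁻¹).toEquiv.subtypeEquiv fun x => ?_))
    simp only [MulEquiv.toEquiv_eq_coe, MulEquiv.coe_toEquiv, MulAut.conj_apply, inv_inv]
    constructor
    · intro e
      calc h⁻¹ * x * h * (h⁻¹ * x * h) = h⁻¹ * (x * x) * h := by group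
        _ = g := by rw [e]; group
    · intro e
      calc x * x = h * (h⁻¹ * x * h * (h⁻¹ * x * h)) * h⁻¹ := by group
        _ = h * g * h⁻¹ := by rw [e]
  have hinner : ∀ χ : Cfsg.IrrCharacter G, Cfsg.classInner θ (χ : G → ℂ) =
      conj ((Nat.card G : ℂ)⁻¹ * ∑ s, (χ : G → ℂ) (s * s)) := fun χ => by
    rw [classInner_def, map_mul, map_inv₀, Complex.conj_natCast, map_sum]
    congr 1
    conv_rhs => rw [← Finset.sum_fiberwise Finset.univ (fun s : G => s * s)]
    refine Finset.sum_congr rfl fun g _ => ?_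
    rw [Finset.sum_congr rfl (g := fun _ => conj ((χ : G → ℂ) g)) fun s hs => by
      simp only [(Finset.mem_filter.mp hs).2]]
    rw [Finset.sum_const, nsmul_eq_mul, ← Fintype.card_subtype, ← Nat.card_eq_fintype_card]
  have hν : ∀ χ : Cfsg.IrrCharacter G, ∃ z : ℤ, Cfsg.classInner θ (χ : G → ℂ) = z := fun χ => by
    rcases indicator_irr χ.2 with ⟨-, h⟩ | ⟨-, h | ⟨h, -⟩⟩
    · exact ⟨0, by rw [hinner, h]; simp⟩
    · exact ⟨1, by rw [hinner, h]; simp⟩
    · exact ⟨-1, by rw [hinner, h]; simp⟩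
  choose ν hν using hν
  have hN : (Nat.card {x : G // x ^ 2 = 1} : ℤ) =
      ∑ χ : Cfsg.IrrCharacter G, ν χ * (deg (χ : G → ℂ) : ℤ) := by
    have h := classFunction_expand_apply hθ 1
    simp only [hν, irr_apply_one_eq_deg] at h
    have h1 : θ 1 = (Nat.card {x : G // x ^ 2 = 1} : ℂ) := by simp [θ, sq]
    rw [h1] at h
    exact_mod_cast h
  have hνs : ∀ (l : Lin G) (χ : Cfsg.IrrCharacter G), ν (l • χ) = ν χ := fun l χ => by
    have : Cfsg.classInner θ ((l • χ : Cfsg.IrrCharacter G) : G → ℂ) =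
        Cfsg.classInner θ (χ : G → ℂ) := by
      rw [hinner, hinner]
      congr 2
      refine Finset.sum_congr rfl fun s _ => ?_
      have hs : QuotientGroup.mk' (frattini G) (s * s) = 1 :=
        (QuotientGroup.eq_one_iff _).mpr (by
          have := Cfsg.Lib.PGroups.pow_mem_frattini hG s; rwa [pow_two] at this)
      rw [smul_apply]
      simp [lam, MonoidHom.comp_apply, -map_mul, hs]
    rw [hν, hν] at this
    exact_mod_cast this
  suffices h : (2 : ℤ) ^ (k + 1) ∣ ∑ χ : Cfsg.IrrCharacter G, ν χ * (deg (χ : G → ℂ) : ℤ) by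
    rw [← hN] at h
    exact_mod_cast h
  rw [← Finset.sum_fiberwise Finset.univ
    (fun χ => (Quotient.mk (MulAction.orbitRel (Lin G) (Cfsg.IrrCharacter G)) χ))]
  refine Finset.dvd_sum fun c _ => ?_
  obtain ⟨χ₀, rfl⟩ := Quotient.exists_rep c
  rw [Finset.sum_congr rfl (g := fun _ => ν χ₀ * (deg (χ₀ : G → ℂ) : ℤ)) fun χ hχ => by
    obtain ⟨l, rfl⟩ := Quotient.exact (Finset.mem_filter.mp hχ).2
    show ν (l • χ₀) * (deg ((l • χ₀ : Cfsg.IrrCharacter G) : G → ℂ) : ℤ) = ν χ₀ * _
    rw [hνs, smul_deg]]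
  rw [Finset.sum_const, nsmul_eq_mul]
  set S := MulAction.stabilizer (Lin G) χ₀
  have horb : (Finset.univ.filter fun χ => (Quotient.mk (MulAction.orbitRel (Lin G) (Cfsg.IrrCharacter G)) χ) =
      Quotient.mk _ χ₀).card * Nat.card S = 2 ^ d := by
    rw [← hd, ← hcardL, Nat.card_eq_fintype_card (α := Lin G),
      ← MulAction.card_orbit_mul_card_stabilizer_eq_card_group (Lin G) χ₀, ← Nat.card_eq_fintype_card, ← Nat.card_eq_fintype_card,
      Nat.card_coe_set_eq, ← Set.ncard_coe_finset]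
    congr 2
    ext χ
    simp only [Finset.coe_filter, Finset.mem_univ, true_and, Set.mem_setOf_eq]
    exact ⟨fun h => Quotient.exact h, fun h => Quotient.sound h⟩
  obtain ⟨j, -, hj⟩ := (Nat.dvd_prime_pow Nat.prime_two).mp (Dvd.intro_left _ horb)
  obtain ⟨n, hn⟩ := IsPGroup.iff_card.mp hG
  obtain ⟨i, -, hi⟩ := (Nat.dvd_prime_pow Nat.prime_two).mp (hn ▸ deg_dvd_card χ₀)
  have hji : j ≤ 2 * i := by
    have h := card_stabilizer_le χ₀
    rw [hj, hi, ← pow_mul, mul_comm i 2] at h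
    exact (Nat.pow_le_pow_iff_right (by norm_num)).mp h
  have hjd : j ≤ d := (Nat.pow_dvd_pow_iff_le_right (by norm_num : 1 < 2)).mp
    (hj ▸ Dvd.intro_left _ horb)
  rw [hj] at horb
  have hc := Nat.eq_of_mul_eq_mul_right (pow_pos two_pos j) (horb.trans (show 2 ^ d = 2 ^ (d - j) * 2 ^ j by
    rw [← pow_add, Nat.sub_add_cancel hjd]))
  rw [hc, hi]
  push_cast
  refine dvd_trans ?_ (Dvd.intro_left (ν χ₀) rfl : ((2:ℤ) ^ (d - j) * 2 ^ i) ∣ ν χ₀ * (2 ^ (d - j) * 2 ^ i))
    |>.trans (dvd_of_eq (by ring))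
  rw [← pow_add]
  exact pow_dvd_pow 2 (by omega)

end Cfsg.Lib.InvolutionCount
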